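import Mathlib

/-!
# Primes of the tensor product of a field with a Galois extension
-/

open scoped TensorProduct

namespace Groth.Agent.TensorPrimes

universe u v w

variable {K : Type u} [Field K] {F : Type v} [Field F] [Algebra K F] {L : Type w} [Field L] [Algebra K L]

/-- Every prime of `F ⊗ L` is the kernel of a homomorphism to the algebraic closure of `F`. -/
theorem exists_hom_ker_eq [Algebra.IsAlgebraic K L] (P : Ideal (F ⊗[K] L)) [P.IsPrime] :
    ∃ φ : F ⊗[K] L →ₐ[F] AlgebraicClosure F, RingHom.ker φ = P := by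
  haveI : Algebra.IsIntegral K L := Algebra.IsAlgebraic.isIntegral
  haveI : Algebra.IsIntegral F (F ⊗[K] L) := inferInstance
  haveI : P.IsMaximal := Ideal.isMaximal_of_isIntegral_of_isMaximal_comap (R := F) P (by
    rw [(Ideal.eq_bot_or_top (P.comap (algebraMap F (F ⊗[K] L)))).resolve_right
      (Ideal.IsPrime.comap (hK := inferInstance) (algebraMap F (F ⊗[K] L))).ne_top]
    exact Ideal.bot_isMaximal)
  letI := Ideal.Quotient.field P
  haveI : Algebra.IsAlgebraic F ((F ⊗[K] L) ⧸ P) := Algebra.IsIntegral.isAlgebraic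
  let ψ : (F ⊗[K] L) ⧸ P →ₐ[F] AlgebraicClosure F := IsAlgClosed.lift
  refine ⟨ψ.comp (Ideal.Quotient.mkₐ F P), ?_⟩
  ext x
  rw [RingHom.mem_ker, AlgHom.comp_apply, map_eq_zero_iff ψ (RingHom.injective ψ.toRingHom),
    Ideal.Quotient.mkₐ_eq_mk, Ideal.Quotient.eq_zero_iff_mem]

/-- The restriction of a homomorphism out of `F ⊗ L` to `L`. -/
noncomputable def res (φ : F ⊗[K] L →ₐ[F] AlgebraicClosure F) : L →ₐ[K] AlgebraicClosure F :=
  (φ.restrictScalars K).comp Algebra.TensorProduct.includeRight

theorem eq_tmul (φ : F ⊗[K] L →ₐ[F] AlgebraicClosure F) (f : F) (l : L) :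
    φ (f ⊗ₜ[K] l) = algebraMap F (AlgebraicClosure F) f * res φ l := by
  rw [← AlgHom.commutes φ f]
  show φ (f ⊗ₜ[K] l) = φ (algebraMap F (F ⊗[K] L) f) * φ ((1 : F) ⊗ₜ[K] l)
  rw [← map_mul, Algebra.TensorProduct.algebraMap_apply, Algebra.algebraMap_self, RingHom.id_apply,
    Algebra.TensorProduct.tmul_mul_tmul, mul_one, one_mul]

/-- Any two homomorphisms to the algebraic closure differ by the Galois group. -/
theorem exists_eq_comp [IsGalois K L] (φ φ' : F ⊗[K] L →ₐ[F] AlgebraicClosure F) :
    ∃ γ : L ≃ₐ[K] L, φ' = φ.comp (Algebra.TensorProduct.map (AlgHom.id F F) (γ : L →ₐ[K] L)) := by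
  letI := (res φ).toRingHom.toAlgebra
  haveI : IsScalarTower K L (AlgebraicClosure F) :=
    IsScalarTower.of_algebraMap_eq fun r => ((res φ).commutes r).symm
  refine ⟨Normal.algHomEquivAut K (AlgebraicClosure F) L (res φ'), Algebra.TensorProduct.ext' fun f l => ?_⟩
  rw [AlgHom.comp_apply, Algebra.TensorProduct.map_tmul, eq_tmul, eq_tmul]
  congr 1
  have h := (Normal.algHomEquivAut K (AlgebraicClosure F) L).symm_apply_apply (res φ')
  exact (DFunLike.congr_fun h l).symm

/-- The elements of `L` sent into `F`. -/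
noncomputable def baseField (φ : F ⊗[K] L →ₐ[F] AlgebraicClosure F) : IntermediateField K L :=
  (IsScalarTower.toAlgHom K F (AlgebraicClosure F)).fieldRange.comap (res φ)

theorem finiteDimensional_baseField [Algebra.IsAlgebraic K L] [FiniteDimensional K (algebraicClosure K F)]
    (φ : F ⊗[K] L →ₐ[F] AlgebraicClosure F) : FiniteDimensional K (baseField φ) := by
  let j := IsScalarTower.toAlgHom K F (AlgebraicClosure F)
  have hm : ∀ m : baseField φ, ∃ f : F, j f = res φ m.1 := fun m => m.2
  choose g hg using hm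
  have hj : Function.Injective j := (algebraMap F (AlgebraicClosure F)).injective
  let g' : baseField φ →ₗ[K] F :=
    { toFun := g
      map_add' := fun a b => hj (by rw [hg, map_add, hg, hg, ← map_add]; rfl)
      map_smul' := fun r a => hj (by rw [hg, RingHom.id_apply, map_smul, hg, ← map_smul]; rfl) }
  have hint : ∀ m, g m ∈ algebraicClosure K F := fun m => by
    rw [mem_algebraicClosure_iff]
    refine (isAlgebraic_algHom_iff j hj).1 ?_
    rw [hg]
    exact (Algebra.IsAlgebraic.isAlgebraic m.1).algHom (res φ)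
  have hg' : Function.Injective g' := fun a b h => Subtype.ext ((res φ).toRingHom.injective (by
    show res φ a.1 = res φ b.1
    rw [← hg a, ← hg b]
    exact congrArg j h))
  exact Module.Finite.of_injective (g'.codRestrict (algebraicClosure K F).toSubalgebra.toSubmodule hint)
    fun a b h => hg' (congrArg Subtype.val h)

/-- Automorphisms fixing the base field stabilise the kernel. -/
theorem ker_comp_eq [IsGalois K L] (φ : F ⊗[K] L →ₐ[F] AlgebraicClosure F) (τ : L ≃ₐ[K] L)
    (hτ : ∀ m ∈ baseField φ, τ m = m) :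
    RingHom.ker (φ.comp (Algebra.TensorProduct.map (AlgHom.id F F) (τ : L →ₐ[K] L))) = RingHom.ker φ := by
  classical
  ext x
  rw [RingHom.mem_ker, RingHom.mem_ker]
  obtain ⟨S, rfl⟩ := TensorProduct.exists_finset x
  let E := IntermediateField.adjoin K ((S.image Prod.snd : Finset L) : Set L)
  haveI : FiniteDimensional K E :=
    IntermediateField.finiteDimensional_adjoin fun y _ => (Algebra.IsAlgebraic.isAlgebraic y).isIntegral
  haveI : Algebra.IsSeparable K E := Algebra.isSeparable_tower_bot_of_isSeparable K E L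
  obtain ⟨α, hα⟩ := Field.exists_primitive_element K E
  set ι := res φ with hι
  have hint : IsIntegral F (ι α.1) := Algebra.IsIntegral.isIntegral _
  -- the minimal polynomial over `F` has coefficients in the image of `L`
  have hdvd : minpoly F (ι α.1) ∣ ((minpoly K α.1).map (algebraMap K F)) := by
    refine minpoly.dvd _ _ ?_
    rw [Polynomial.aeval_map_algebraMap, Polynomial.aeval_algHom_apply, minpoly.aeval, map_zero]
  have hsplitL : ((minpoly K α.1).map (algebraMap K L)).Splits :=
    Normal.splits inferInstance α.1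
  have hmonic : (minpoly F (ι α.1)).Monic := minpoly.monic hint
  have hlifts : (minpoly F (ι α.1)).map (algebraMap F (AlgebraicClosure F)) ∈ Polynomial.lifts ι.toRingHom := by
    have hs := IsAlgClosed.splits ((minpoly F (ι α.1)).map (algebraMap F (AlgebraicClosure F)))
    rw [hs.eq_prod_roots_of_monic (hmonic.map _)]
    refine multiset_prod_mem _ fun q hq => ?_
    obtain ⟨r, hr, rfl⟩ := Multiset.mem_map.1 hq
    have hr0 : ((minpoly K α.1).map (algebraMap K (AlgebraicClosure F))).IsRoot r := by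
      rw [IsScalarTower.algebraMap_eq K F (AlgebraicClosure F), ← Polynomial.map_map]
      exact (Polynomial.isRoot_of_mem_roots hr).dvd (Polynomial.map_dvd _ hdvd)
    have hmem : r ∈ ((minpoly K α.1).map (algebraMap K (AlgebraicClosure F))).roots :=
      (Polynomial.mem_roots (Polynomial.map_ne_zero (minpoly.ne_zero
        (Algebra.IsIntegral.isIntegral α.1)))).2 hr0
    have he : (minpoly K α.1).map (algebraMap K (AlgebraicClosure F)) =
        ((minpoly K α.1).map (algebraMap K L)).map ι.toRingHom := by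
      rw [Polynomial.map_map]
      congr 1
      exact (ι.comp_algebraMap).symm
    rw [he, hsplitL.roots_map, Multiset.mem_map] at hmem
    obtain ⟨l, -, rfl⟩ := hmem
    exact ⟨Polynomial.X - Polynomial.C l, by simp⟩
  obtain ⟨q, hq⟩ := hlifts
  have hq' : q.map ι.toRingHom = (minpoly F (ι α.1)).map (algebraMap F (AlgebraicClosure F)) := hq
  have hfix : q.map (τ : L →+* L) = q := by
    ext n
    rw [Polynomial.coeff_map]
    refine hτ _ ⟨(minpoly F (ι α.1)).coeff n, ?_⟩
    have := congrArg (fun p => p.coeff n) hq'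
    simp only [Polynomial.coeff_map] at this
    exact this.symm
  have hroot : q.eval α.1 = 0 := by
    apply ι.toRingHom.injective
    rw [map_zero, ← Polynomial.eval_map_apply, hq', Polynomial.eval_map, ← Polynomial.aeval_def]
    exact minpoly.aeval _ _
  have hroot' : Polynomial.aeval (ι (τ α.1)) (minpoly F (ι α.1)) = 0 := by
    rw [Polynomial.aeval_def, ← Polynomial.eval_map, ← hq']
    show (q.map ι.toRingHom).eval (ι.toRingHom (τ α.1)) = 0
    rw [Polynomial.eval_map_apply]
    conv_lhs => rw [← hfix]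
    show ι.toRingHom ((q.map (τ : L →+* L)).eval ((τ : L →+* L) α.1)) = 0
    rw [Polynomial.eval_map_apply, hroot, map_zero, map_zero]
  obtain ⟨σ, hσ⟩ := minpoly.exists_algEquiv_of_root' hint.isAlgebraic hroot'
  have hE : ∀ e : E, σ (ι e.1) = ι (τ e.1) := fun e => by
    let f₁ : E →ₐ[K] AlgebraicClosure F := ((σ.toAlgHom.restrictScalars K).comp ι).comp E.val
    let f₂ : E →ₐ[K] AlgebraicClosure F := (ι.comp τ.toAlgHom).comp E.val
    suffices f₁ = f₂ from DFunLike.congr_fun this e
    refine AlgHom.ext fun y => ?_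
    have hy : y ∈ IntermediateField.adjoin K {α} := hα ▸ trivial
    have hy' : y ∈ Algebra.adjoin K {α} := by
      rw [← IntermediateField.adjoin_simple_toSubalgebra_of_isAlgebraic
        (Algebra.IsAlgebraic.isAlgebraic α)]
      exact hy
    have := AlgHom.eqOn_adjoin_iff (φ := f₁) (ψ := f₂) (s := {α})
    exact this.2 (by rintro _ rfl; exact hσ) hy'
  have key : φ (Algebra.TensorProduct.map (AlgHom.id F F) (τ : L →ₐ[K] L) (∑ i ∈ S, i.1 ⊗ₜ[K] i.2)) =
      σ (φ (∑ i ∈ S, i.1 ⊗ₜ[K] i.2)) := by
    simp only [map_sum, Algebra.TensorProduct.map_tmul]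
    refine Finset.sum_congr rfl fun i hi => ?_
    rw [eq_tmul, eq_tmul, map_mul, AlgEquiv.commutes]
    congr 1
    exact (hE ⟨i.2, IntermediateField.subset_adjoin K _ (Finset.mem_coe.2 (Finset.mem_image_of_mem _ hi))⟩).symm
  rw [AlgHom.comp_apply, key, map_eq_zero_iff σ σ.injective]

/-- The primes of `F ⊗ L` are finite in number and permuted transitively by the Galois group. -/
theorem finite_and_transitive [IsGalois K L] [FiniteDimensional K (algebraicClosure K F)] :
    Finite (PrimeSpectrum (F ⊗[K] L)) ∧ ∀ P Q : PrimeSpectrum (F ⊗[K] L), ∃ γ : L ≃ₐ[K] L,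
      Q.asIdeal = P.asIdeal.comap (Algebra.TensorProduct.map (AlgHom.id K F) (γ : L →ₐ[K] L)) := by
  classical
  choose φ hφ using fun P : PrimeSpectrum (F ⊗[K] L) => exists_hom_ker_eq P.asIdeal
  have key : ∀ P Q : PrimeSpectrum (F ⊗[K] L), ∃ γ : L ≃ₐ[K] L,
      RingHom.ker ((φ P).comp (Algebra.TensorProduct.map (AlgHom.id F F) (γ : L →ₐ[K] L))) = Q.asIdeal :=
    fun P Q => by
    obtain ⟨γ, hγ⟩ := exists_eq_comp (φ P) (φ Q)
    exact ⟨γ, by rw [← hγ]; exact hφ Q⟩
  refine ⟨?_, fun P Q => ?_⟩
  · rcases isEmpty_or_nonempty (PrimeSpectrum (F ⊗[K] L)) with h | ⟨⟨P₀⟩⟩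
    · infer_instance
    haveI := finiteDimensional_baseField (φ P₀)
    choose γ hγ using key P₀
    refine Finite.of_injective (fun Q => ((γ Q).symm.toAlgHom.comp (baseField (φ P₀)).val :
      baseField (φ P₀) →ₐ[K] L)) fun Q Q' h => PrimeSpectrum.ext ?_
    rw [← hγ Q, ← hγ Q']
    have hfix : ∀ m ∈ baseField (φ P₀), ((γ Q').symm.trans (γ Q)) m = m := fun m hm => by
      have := DFunLike.congr_fun h ⟨m, hm⟩
      show γ Q ((γ Q').symm m) = m
      rw [show (γ Q').symm m = (γ Q).symm m from this.symm, AlgEquiv.apply_symm_apply]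
    have hker := ker_comp_eq (φ P₀) _ hfix
    ext x
    have hx := congrArg (fun I => Algebra.TensorProduct.map (AlgHom.id F F) (γ Q' : L →ₐ[K] L) x ∈ I) hker
    simp only [RingHom.mem_ker, AlgHom.comp_apply, eq_iff_iff] at hx ⊢
    rw [← hx]
    rw [← AlgHom.comp_apply (Algebra.TensorProduct.map _ _) (Algebra.TensorProduct.map _ _),
      ← Algebra.TensorProduct.map_comp, AlgHom.id_comp]
    have e : ((γ Q').symm.trans (γ Q) : L →ₐ[K] L).comp (γ Q' : L →ₐ[K] L) = (γ Q : L →ₐ[K] L) :=
      AlgHom.ext fun l => by simp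
    rw [e]
  · obtain ⟨γ, hγ⟩ := key P Q
    refine ⟨γ, ?_⟩
    rw [← hγ, ← hφ P]
    ext x
    simp only [RingHom.mem_ker, AlgHom.comp_apply, Ideal.mem_comap]
    rfl

end Groth.Agent.TensorPrimes
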